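import Groth.Agent.LocDuality.Socle
import Groth.Agent.LocDuality.Duality
import Groth.Agent.LocCohBasic.Vanish
import Groth.Agent.LocCohBasic.Finiteness

/-!
# Annihilators of the homology of complexes of free modules with torsion homology

A complex is given elementwise: `F : ℕ → Type u` and `d i : F (i+1) →ₗ F i`.
-/

universe u

open CategoryTheory Limits LocCoh Function Groth.Agent.LocCohBasic Groth.Agent.LocDuality

namespace Groth.Agent.IntThm

noncomputable section

variable {R : Type u} [CommRing R]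

section Cx

variable (F : ℕ → Type u) [∀ i, AddCommGroup (F i)] [∀ i, Module R (F i)] (d : ∀ i, F (i + 1) →ₗ[R] F i)

/-- Cycles. -/
def Z : ∀ i, Submodule R (F i)
  | 0 => ⊤
  | i + 1 => LinearMap.ker (d i)

/-- Boundaries. -/
def B (i : ℕ) : Submodule R (F i) := LinearMap.range (d i)

/-- `d ∘ d = 0`. -/
def IsCx : Prop := ∀ i x, d i (d (i + 1) x) = 0

variable {F d}

lemma B_le_Z (hd : IsCx F d) : ∀ i, B F d i ≤ Z F d i
  | 0 => le_top
  | i + 1 => by
    rintro _ ⟨x, rfl⟩
    exact LinearMap.mem_ker.mpr (hd i x)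

end Cx

variable [IsNoetherianRing R] (I : Ideal R)

/-- From a module and a kernel to the image. -/
lemma smul_H_of_ses {M N : Type u} [AddCommGroup M] [Module R M] [AddCommGroup N] [Module R N]
    (p : M →ₗ[R] N) (hp : Surjective p) {a b : R} {j : ℕ}
    (ha : ∀ y : LocCoh.H I j M, a • y = 0) (hb : ∀ y : LocCoh.H I (j + 1) (LinearMap.ker p), b • y = 0)
    (y : LocCoh.H I j N) : (a * b) • y = 0 := by
  have hS := LinearMap.shortExact_shortComplexKer hp
  obtain ⟨w, hw⟩ := exists_of_delta_eq_zero I hS (b • y) (by rw [map_smul]; exact hb _)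
  rw [mul_smul, ← hw, ← map_smul, show a • w = 0 from ha w]
  exact map_zero _

/-- Torsion cokernels do not matter in higher degrees. -/
lemma smul_H_of_torsion_quotient {M : Type u} [AddCommGroup M] [Module R M] (N : Submodule R M)
    (htor : ∀ x : M, ∃ k, ∀ r ∈ I ^ k, r • x ∈ N) {b : R} {j : ℕ}
    (hb : ∀ y : LocCoh.H I (j + 1) N, b • y = 0) (y : LocCoh.H I (j + 1) M) : b • y = 0 := by
  let S := ModuleCat.shortComplexOfCompEqZero N.subtype N.mkQ
    (LinearMap.ext fun x => (Submodule.Quotient.mk_eq_zero N).mpr x.2)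
  have hS : S.ShortExact := ModuleCat.shortComplex_shortExact _
    (LinearMap.exact_subtype_mkQ N) (Submodule.injective_subtype _) (Submodule.mkQ_surjective _)
  have hQ : IsPowerTorsion I S.X₃ := fun q => by
    obtain ⟨x, rfl⟩ := Submodule.mkQ_surjective N q
    obtain ⟨k, hk⟩ := htor x
    exact ⟨k, fun r hr => by rw [← map_smul]; exact (Submodule.Quotient.mk_eq_zero N).mpr (hk r hr)⟩
  obtain ⟨x, rfl⟩ := exists_of_map_g_eq_zero I hS y
    (@Subsingleton.elim _ (subsingleton_of_isPowerTorsion I j S.X₃ hQ) _ _)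
  rw [← map_smul, show b • x = 0 from hb x]
  exact map_zero _

/-- The bottom step. -/
lemma mul_smul_mem_of_torsion {M : Type u} [AddCommGroup M] [Module R M] (N : Submodule R M)
    (htor : ∀ x : M, ∃ k, ∀ r ∈ I ^ k, r • x ∈ N) {a b : R}
    (ha : ∀ x : M, x ∈ DRing.torsionSub I (ModuleCat.of R M) → a • x = 0)
    (hb : ∀ y : LocCoh.H I 1 N, b • y = 0) (x : M) : (a * b) • x ∈ N := by
  let S := ModuleCat.shortComplexOfCompEqZero N.subtype N.mkQ
    (LinearMap.ext fun x => (Submodule.Quotient.mk_eq_zero N).mpr x.2)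
  have hS : S.ShortExact := ModuleCat.shortComplex_shortExact _
    (LinearMap.exact_subtype_mkQ N) (Submodule.injective_subtype _) (Submodule.mkQ_surjective _)
  obtain ⟨k, hk⟩ := htor x
  let q : DRing.torsionSub I S.X₃ :=
    ⟨N.mkQ x, k, fun r hr => by rw [← map_smul]; exact (Submodule.Quotient.mk_eq_zero N).mpr (hk r hr)⟩
  obtain ⟨w, hw⟩ := exists_of_delta_eq_zero I hS (b • (h0Equiv I S.X₃).symm q) (by rw [map_smul]; exact hb _)
  have h1 := congrArg (fun t => (h0Equiv I S.X₃ t : S.X₃)) hw
  simp only [h0Equiv_map, map_smul, LinearEquiv.apply_symm_apply] at h1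
  have h2 : a • (h0Equiv I S.X₂ w : S.X₂) = 0 := ha _ (h0Equiv I S.X₂ w).2
  have h3 := congrArg (fun t => a • t) h1
  rw [← map_smul, h2, map_zero] at h3
  refine (Submodule.Quotient.mk_eq_zero N).mp ?_
  change N.mkQ ((a * b) • x) = 0
  rw [map_smul, mul_smul]
  exact h3.symm

/-- Annihilators of the local cohomology of a ring act on that of finite free modules. -/
lemma smul_H_free {j : ℕ} {a : R} (ha : ∀ y : LocCoh.H I j R, a • y = 0) (M : Type u) [AddCommGroup M]
    [Module R M] [Module.Free R M] [Module.Finite R M] (y : LocCoh.H I j M) : a • y = 0 := by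
  by_cases hR : Subsingleton R
  · rw [Subsingleton.elim a 0, zero_smul]
  rw [not_subsingleton_iff_nontrivial] at hR
  let e := (Module.finBasis R M).equivFun
  let ι := (localCohomology I j).mapIso e.toModuleIso
  apply ι.toLinearEquiv.injective
  rw [map_smul, map_zero]
  exact smul_pi_eq_zero I ha _

omit [IsNoetherianRing R] in
/-- Torsion elements of finite free modules. -/
lemma smul_torsion_free {a : R} (ha : ∀ y : LocCoh.H I 0 R, a • y = 0) (M : Type u) [AddCommGroup M]
    [Module R M] [Module.Free R M] {x : M} (hx : x ∈ DRing.torsionSub I (ModuleCat.of R M)) : a • x = 0 := by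
  let b := Module.Free.chooseBasis R M
  refine b.ext_elem fun i => ?_
  obtain ⟨k, hk⟩ := hx
  have h1 : b.repr x i ∈ DRing.torsionSub I (ModuleCat.of R R) := ⟨k, fun r hr => by
    rw [← Finsupp.smul_apply, ← map_smul, hk r hr, map_zero]; rfl⟩
  have h2 := congrArg (fun t => (h0Equiv I (ModuleCat.of R R) t : R)) (ha ((h0Equiv I (ModuleCat.of R R)).symm ⟨_, h1⟩))
  simpa using h2

section Main

variable {F : ℕ → Type u} [∀ i, AddCommGroup (F i)] [∀ i, Module R (F i)]
  [∀ i, Module.Free R (F i)] [∀ i, Module.Finite R (F i)] {d : ∀ i, F (i + 1) →ₗ[R] F i} (hd : IsCx F d)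
  {k : ℕ} (hk : ∀ i, k < i → Subsingleton (F i))
  (htor : ∀ i, ∀ x ∈ Z F d i, ∃ N, ∀ r ∈ I ^ N, r • x ∈ B F d i)
  {a : ℕ → R} {m : ℕ} (ha : ∀ s ≤ m, ∀ y : LocCoh.H I s R, a s • y = 0)

include hd hk htor ha

lemma smul_H_boundaries : ∀ (t i : ℕ), k ≤ i + t → ∀ j, 1 ≤ j → j + t ≤ m + 1 →
    ∀ y : LocCoh.H I j (B F d i), (∏ s ∈ Finset.range t, a (j + s)) • y = 0 := by
  intro t
  induction t with
  | zero =>
    intro i hi j _ _ y
    have : Subsingleton (F (i + 1)) := hk _ (by omega)
    have : Subsingleton (B F d i) := by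
      refine subsingleton_of_forall_eq 0 ?_
      rintro ⟨_, x, rfl⟩
      exact Subtype.ext ((congrArg (d i) (Subsingleton.elim x 0)).trans (map_zero _))
    have : IsZero (ModuleCat.of R (B F d i)) := ModuleCat.isZero_of_subsingleton _
    have := ModuleCat.subsingleton_of_isZero ((localCohomology I j).map_isZero this)
    exact Subsingleton.elim _ _
  | succ t ih =>
    intro i hi j hj hjt y
    have h1 : ∀ y : LocCoh.H I (j + 1) (B F d (i + 1)), (∏ s ∈ Finset.range t, a (j + 1 + s)) • y = 0 :=
      ih (i + 1) (by omega) (j + 1) (by omega) (by omega)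
    let K := LinearMap.ker (d i).rangeRestrict
    have hK : K = Z F d (i + 1) := LinearMap.ker_rangeRestrict _
    have h2 : ∀ y : LocCoh.H I (j + 1) K, (∏ s ∈ Finset.range t, a (j + 1 + s)) • y = 0 := by
      let e : Submodule.comap K.subtype (B F d (i + 1)) ≃ₗ[R] B F d (i + 1) :=
        Submodule.comapSubtypeEquivOfLe ((B_le_Z hd (i + 1)).trans hK.ge)
      refine smul_H_of_torsion_quotient I (Submodule.comap K.subtype (B F d (i + 1)))
        (fun x => htor (i + 1) x (hK.le x.2)) fun w => ?_
      apply ((localCohomology I (j + 1)).mapIso e.toModuleIso).toLinearEquiv.injective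
      rw [map_smul, map_zero]
      exact h1 _
    rw [Finset.prod_range_succ', Nat.add_zero, mul_comm]
    refine smul_H_of_ses I (d i).rangeRestrict (d i).surjective_rangeRestrict
      (smul_H_free I (ha j (by omega)) _) ?_ y
    intro w
    rw [Finset.prod_congr rfl fun s _ => congrArg a (show j + (s + 1) = j + 1 + s by omega)]
    exact h2 w

/-- Products of annihilators of local cohomology kill homology. -/
theorem smul_mem_B {i t : ℕ} (hi : i + t = k) {x : F i} (hx : x ∈ Z F d i) (htm : t ≤ m := by omega) :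
    (∏ s ∈ Finset.range (t + 1), a s) • x ∈ B F d i := by
  have h1 : ∀ y : LocCoh.H I 1 (B F d i), (∏ s ∈ Finset.range t, a (1 + s)) • y = 0 :=
    smul_H_boundaries I hd hk htor ha t i hi.ge 1 le_rfl (by omega)
  let N := Submodule.comap (Z F d i).subtype (B F d i)
  let e : N ≃ₗ[R] B F d i := Submodule.comapSubtypeEquivOfLe (B_le_Z hd i)
  have h2 := mul_smul_mem_of_torsion I N (fun z => htor i z z.2) (a := a 0)
    (fun z hz => Subtype.ext ((smul_torsion_free I (ha 0 (Nat.zero_le m)) (F i)
      (DRing.map_mem_torsionSub I (Z F d i).subtype hz)).trans rfl))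
    (fun w => ((localCohomology I 1).mapIso e.toModuleIso).toLinearEquiv.injective (by
      rw [map_smul, map_zero]; exact h1 _)) ⟨x, hx⟩
  rw [Finset.prod_range_succ', mul_comm]
  rw [Finset.prod_congr rfl fun s _ => congrArg a (show s + 1 = 1 + s by omega)]
  exact h2

end Main

end

end Groth.Agent.IntThm
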