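import Groth.Agent.IntThm.Annihilator
import Groth.Agent.LocDuality.CanonCM
import Mathlib.Algebra.Homology.ShortComplex.ModuleCat

/-!
# Complexes of free modules with torsion homology: vanishing below the depth
-/

universe u

open CategoryTheory Limits LocCoh Function IsLocalRing Groth.Agent.LocCohBasic

namespace Groth.Agent.IntThm

noncomputable section

variable {R : Type u} [CommRing R] [IsNoetherianRing R] (I : Ideal R) (K : CochainComplex (ModuleCat.{u} R) ℕ)

/-- Coboundaries. -/
def coB : ∀ i, Submodule R (K.X i)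
  | 0 => ⊥
  | i + 1 => LinearMap.range (K.d i (i + 1)).hom

omit [IsNoetherianRing R] in
lemma coB_le (i : ℕ) : coB K i ≤ LinearMap.ker (K.d i (i + 1)).hom := by
  cases i with
  | zero => exact bot_le
  | succ i =>
    rintro _ ⟨x, rfl⟩
    exact LinearMap.mem_ker.mpr (congrArg (fun t => t.hom x) (K.d_comp_d i (i + 1) (i + 1 + 1)))

omit [IsNoetherianRing R] in
/-- Cohomology of a cochain complex elementwise. -/
theorem exists_cohomology_proj : ∀ i : ℕ, ∃ π : LinearMap.ker (K.d i (i + 1)).hom →ₗ[R] K.homology i,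
    Surjective π ∧ ∀ z, π z = 0 ↔ (z : K.X i) ∈ coB K i := by
  intro i
  have key : ∀ j, (ComplexShape.up ℕ).prev i = j →
      ∀ N : Submodule R (LinearMap.ker (K.d i (i + 1)).hom),
      N = LinearMap.range (K.sc' j i (i + 1)).moduleCatToCycles →
      ∃ π : LinearMap.ker (K.d i (i + 1)).hom →ₗ[R] K.homology i, Surjective π ∧ ∀ z, π z = 0 ↔ z ∈ N := by
    rintro j hj N rfl
    let S := K.sc' j i (i + 1)
    let e : K.homology i ≃ₗ[R] LinearMap.ker S.g.hom ⧸ LinearMap.range S.moduleCatToCycles :=
      ((K.homologyIsoSc' j i (i + 1) hj (CochainComplex.next ℕ i)) ≪≫ S.moduleCatHomologyIso).toLinearEquiv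
    let π : LinearMap.ker (K.d i (i + 1)).hom →ₗ[R] K.homology i :=
      e.symm.toLinearMap ∘ₗ (LinearMap.range S.moduleCatToCycles).mkQ
    refine ⟨π, e.symm.surjective.comp (LinearMap.range S.moduleCatToCycles).mkQ_surjective, fun z => ?_⟩
    exact (e.symm.map_eq_zero_iff).trans ((LinearMap.range S.moduleCatToCycles).mkQ_apply z ▸ Submodule.Quotient.mk_eq_zero _)
  have hN : ∃ j, (ComplexShape.up ℕ).prev i = j ∧ ∀ z : LinearMap.ker (K.d i (i + 1)).hom,
      z ∈ LinearMap.range (K.sc' j i (i + 1)).moduleCatToCycles ↔ (z : K.X i) ∈ coB K i := by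
    cases i with
    | zero =>
      refine ⟨0, CochainComplex.prev_nat_zero, fun z => ⟨fun ⟨w, hw⟩ => (Submodule.mem_bot R).mpr ?_,
        fun hz => ⟨0, ?_⟩⟩⟩
      · have h1 : (K.d 0 0).hom w = z.1 := congrArg Subtype.val hw
        rw [← h1, K.shape 0 0 (by simp)]
        rfl
      · rw [map_zero]; exact Subtype.ext ((Submodule.mem_bot R).mp hz).symm
    | succ i =>
      exact ⟨i, CochainComplex.prev_nat_succ i, fun z =>
        ⟨fun ⟨w, hw⟩ => ⟨w, congrArg Subtype.val hw⟩, fun ⟨w, hw⟩ => ⟨w, Subtype.ext hw⟩⟩⟩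
  obtain ⟨j, hj, hmem⟩ := hN
  obtain ⟨π, hπ, hπ'⟩ := key j hj _ rfl
  exact ⟨π, hπ, fun z => (hπ' z).trans (hmem z)⟩

variable {g : ℕ} (hg : ∀ j < g, Subsingleton (LocCoh.H I j R))
  [∀ i, Module.Free R (K.X i)] [∀ i, Module.Finite R (K.X i)]
  (htor : ∀ i, ∀ x ∈ LinearMap.ker (K.d i (i + 1)).hom, ∃ N, ∀ r ∈ I ^ N, r • x ∈ coB K i)

include hg htor

lemma subsingleton_H_coB : ∀ (i j : ℕ), 1 ≤ j → j + i ≤ g → ∀ y : LocCoh.H I j (coB K i), (1 : R) • y = 0 := by
  intro i
  induction i with
  | zero =>
    intro j _ _ y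
    have : IsZero (ModuleCat.of R (coB K 0)) := by
      have : Subsingleton (coB K 0) := inferInstanceAs (Subsingleton (⊥ : Submodule R (K.X 0)))
      exact ModuleCat.isZero_of_subsingleton _
    have := ModuleCat.subsingleton_of_isZero ((localCohomology I j).map_isZero this)
    exact Subsingleton.elim _ _
  | succ i ih =>
    intro j hj hji y
    let d := (K.d i (i + 1)).hom
    have hK : LinearMap.ker d.rangeRestrict = LinearMap.ker d := LinearMap.ker_rangeRestrict _
    have h2 : ∀ w : LocCoh.H I (j + 1) (LinearMap.ker d.rangeRestrict), (1 : R) • w = 0 := by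
      let e : Submodule.comap (LinearMap.ker d.rangeRestrict).subtype (coB K i) ≃ₗ[R] coB K i :=
        Submodule.comapSubtypeEquivOfLe ((coB_le K i).trans hK.ge)
      refine smul_H_of_torsion_quotient I (Submodule.comap (LinearMap.ker d.rangeRestrict).subtype (coB K i))
        (fun x => htor i x (hK.le x.2)) fun w => ?_
      apply ((localCohomology I (j + 1)).mapIso e.toModuleIso).toLinearEquiv.injective
      rw [map_smul, map_zero]
      exact ih (j + 1) (by omega) (by omega) _
    have := smul_H_of_ses I d.rangeRestrict d.surjective_rangeRestrict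
      (smul_H_free I (a := 1) (fun y => @Subsingleton.elim _ (hg j (by omega)) _ _) _) h2 y
    rwa [mul_one] at this

/-- Cohomology vanishes below `g`. -/
theorem isZero_homology {i : ℕ} (hi : i < g) : IsZero (K.homology i) := by
  obtain ⟨π, hπ, hπ'⟩ := exists_cohomology_proj K i
  have : Subsingleton (K.homology i) := subsingleton_of_forall_eq 0 fun q => by
    obtain ⟨z, rfl⟩ := hπ q
    refine (hπ' z).mpr ?_
    let Zi := LinearMap.ker (K.d i (i + 1)).hom
    let e : Submodule.comap Zi.subtype (coB K i) ≃ₗ[R] coB K i := Submodule.comapSubtypeEquivOfLe (coB_le K i)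
    have h := mul_smul_mem_of_torsion I (Submodule.comap Zi.subtype (coB K i)) (fun x => htor i x x.2) (a := 1) (b := 1)
      (fun x hx => Subtype.ext ((smul_torsion_free I (fun y => @Subsingleton.elim _ (hg 0 (by omega)) _ _) (K.X i)
        (DRing.map_mem_torsionSub I Zi.subtype hx)).trans rfl))
      (fun w => ((localCohomology I 1).mapIso e.toModuleIso).toLinearEquiv.injective (by
        rw [map_smul, map_zero]; exact subsingleton_H_coB I K hg htor i 1 le_rfl (by omega) _)) z
    rw [one_mul, one_smul] at h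
    exact h
  exact ModuleCat.isZero_of_subsingleton _

end

end Groth.Agent.IntThm
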